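import Cfsg.Agent.H769.RowON
import Cfsg.Agent.H516.TwoFrame

/-!
# S4094, S3842 at the prime 2: the O'Nan group (helper341)

`H₁ = Z(S) = ⟨f⟩`, `H₂ = E = Ω₁(4³)`: the automorphisms normalizing `S` fix `f`, hence `C(f)`, hence `J = C(f)'`, hence
`E` (`Estar.aut_E`). `e` commutes with `a`, a conjugate of `f` under `N(E)`.
-/

set_option autoImplicit false
set_option maxRecDepth 100000

namespace Cfsg.Agent.H341.NxcON

open Subgroup Cfsg
open Cfsg.Spor (ON)
open Cfsg.Spor.ON (Gen)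
open Cfsg.Agent.SporadicB.ON45Word (on)
open Cfsg.Agent.KFacts.MulSpor.ON (w w_append w_one w_cons w_iw iw eqw cj)
open Cfsg.Agent.KFacts.ON.Cent (hON finite_ON cen card_K0)
open Cfsg.Agent.KFacts.ON.Words Cfsg.Agent.KFacts.ON.Struct Cfsg.Agent.KFacts.ON.Qs Cfsg.Agent.KFacts.ON.Estar
open Cfsg.Agent.ONType
open Cfsg.Agent.ONType.TupK (K0)
open Cfsg.Agent.ONType.TupT0 (T0)
open Cfsg.Agent.H516.Two
open scoped commutatorElement

theorem ae : on .a * on .e = on .e * on .a := by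
  have h : w [.a, .e] = w [.e, .a] := Cfsg.Agent.KFacts.ON.Words.eq _ _ (by decide +kernel)
  rw [w_cons, w_one, w_cons, w_one] at h
  exact h

/-- `C(f)` and `N(E)` generate. -/
theorem gen : closure ({c : ON | c * on .f = on .f * c} ∪ {w Wa}) = ⊤ := by
  obtain ⟨Y, hY⟩ : ∃ Y, Y = closure ({c : ON | c * on .f = on .f * c} ∪ {w Wa}) := ⟨_, rfl⟩
  rw [← hY]
  have hK : ∀ c, c ∈ K0 → c ∈ Y := fun c hc => by
    rw [hY]; exact subset_closure (Or.inl (mem_K0.1 hc))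
  have hW : w Wa ∈ Y := by rw [hY]; exact subset_closure (Or.inr rfl)
  have he : on .e ∈ Y := by
    have h1 : w Wa * on .e * (w Wa)⁻¹ ∈ K0 := by
      rw [mem_K0, ← Wa_a]
      calc w Wa * on .e * (w Wa)⁻¹ * (w Wa * on .a * (w Wa)⁻¹) = w Wa * (on .e * on .a) * (w Wa)⁻¹ := by group
        _ = w Wa * (on .a * on .e) * (w Wa)⁻¹ := by rw [ae]
        _ = _ := by group
    have h2 : on .e = (w Wa)⁻¹ * (w Wa * on .e * (w Wa)⁻¹) * w Wa := by group
    rw [h2]
    exact Y.mul_mem (Y.mul_mem (Y.inv_mem hW) (hK _ h1)) hW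
  have hall : ∀ x : Gen, on x ∈ Y := by
    intro x
    cases x
    · exact hK _ g_mem
    · exact hK _ a_mem
    · exact hK _ b_mem
    · exact hK _ c_mem
    · exact hK _ d_mem
    · exact he
    · exact hK _ f_mem
  have h3 : closure (Set.range on) = ⊤ := PresentedGroup.closure_range_of _
  rw [eq_top_iff, ← h3, closure_le]
  rintro _ ⟨x, rfl⟩
  exact hall x

theorem inv_E : Inv (TupS.S hs) E := by
  have hfin := finite_ON
  refine map_le_of_inv fun α hα y hy => ?_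
  have hfix : ∀ β : MulAut ON, (TupS.S hs).map β.toMonoidHom = TupS.S hs → β (on .f) = on .f := fun β hβ =>
    fix_of_center (T := TupS.S hs) f_ne_one (T0_le_S (TupT0.f_mem hs)) (fun t ht => mem_K0.1 (TupS.S_le hs ht))
      (fun y hy hc => Cfsg.Agent.KFacts.ON.OneClass.center_S hy hc) hβ
  have hK : ∀ β : MulAut ON, (TupS.S hs).map β.toMonoidHom = TupS.S hs → ∀ x ∈ K0, β x ∈ K0 := by
    intro β hβ x hx
    have h1 := congrArg β (mem_K0.1 hx)
    rw [map_mul, map_mul, hfix β hβ] at h1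
    exact mem_K0.2 h1
  have hJ : ∀ β : MulAut ON, (TupS.S hs).map β.toMonoidHom = TupS.S hs → ∀ x ∈ J, β x ∈ J := by
    intro β hβ x hx
    obtain ⟨P, hP⟩ : ∃ P, P = J.map β.toMonoidHom := ⟨_, rfl⟩
    have hPK : P ≤ K0 := by
      rw [hP]
      rintro _ ⟨x, hx, rfl⟩
      exact hK β hβ x (J_le hx)
    have hPP : ⁅P, P⁆ = P := by rw [hP, ← map_commutator, perf]
    have h2 : ⁅P, P⁆ ≤ J := by
      rw [commutator_le]
      intro a ha b hb
      have hn : (J.subgroupOf K0).Normal := normal_of_index_eq_two index_J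
      have h4 : ∀ c : K0, c * c ∈ J.subgroupOf K0 := fun c => mul_self_mem_of_index_two index_J c
      have h3 : (⁅(⟨a, hPK ha⟩ : K0), (⟨b, hPK hb⟩ : K0)⁆ : K0) ∈ J.subgroupOf K0 := by
        have h5 : ⁅(⟨a, hPK ha⟩ : K0), (⟨b, hPK hb⟩ : K0)⁆ = (⟨a, hPK ha⟩ * ⟨b, hPK hb⟩) * (⟨a, hPK ha⟩ * ⟨b, hPK hb⟩) *
            ((⟨b, hPK hb⟩ : K0)⁻¹ * ((⟨a, hPK ha⟩ : K0)⁻¹ * (⟨a, hPK ha⟩ : K0)⁻¹) * (⟨b, hPK hb⟩ : K0)) *
              ((⟨b, hPK hb⟩ : K0)⁻¹ * (⟨b, hPK hb⟩ : K0)⁻¹) := by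
          rw [commutatorElement_def]; group
        rw [h5]
        refine mul_mem (mul_mem (h4 _) ?_) (h4 _)
        have h6 := hn.conj_mem _ (h4 (⟨a, hPK ha⟩ : K0)⁻¹) (⟨b, hPK hb⟩ : K0)⁻¹
        rwa [inv_inv] at h6
      exact h3
    rw [hPP] at h2
    exact h2 (by rw [hP]; exact ⟨x, hx, rfl⟩)
  have hαi := symm_map hα
  let β : MulAut J :=
    { toFun := fun x => ⟨α x, hJ α hα x x.2⟩
      invFun := fun x => ⟨α⁻¹ x, hJ α⁻¹ hαi x x.2⟩
      left_inv := fun x => Subtype.ext (MulAut.inv_apply_self _ α x)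
      right_inv := fun x => Subtype.ext (MulAut.apply_inv_self _ α x)
      map_mul' := fun x y => Subtype.ext (map_mul α _ _) }
  have hβ : ∀ x : J, ((β x : J) : ON) = α x := fun _ => rfl
  have h1 := aut_E β (fun x => by
    rw [hβ]
    constructor
    · rintro ⟨h1, h2⟩
      exact ⟨(mem_of_map hα).2 h1, hJ α hα _ h2⟩
    · rintro ⟨h1, h2⟩
      exact ⟨(mem_of_map hα).1 h1, x.2⟩) (e := ⟨y, EJ hy⟩) hy
  exact h1

/-- **The O'Nan group.** -/
theorem nxc_model : NXC ON := by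
  have hfin := finite_ON
  have : Fact (Nat.Prime 2) := ⟨Nat.prime_two⟩
  have hsim : IsSimpleGroup ON := hs
  obtain ⟨P, hP⟩ := Cfsg.Agent.KFacts.ON.OneClass.exists_sylow
  have hna : ¬ IsMulCommutative ON := by
    intro h
    have h1 : on .f = on .a * on .f * on .a := by
      rw [h.is_comm.comm (on .a) (on .f), mul_assoc, aa, mul_one]
    have h2 : s * on .a * s⁻¹ = on .a := by
      rw [h.is_comm.comm s (on .a), mul_inv_cancel_right]
    rw [sa] at h2
    exact f_ne_one (mul_left_cancel (h2.trans (mul_one _).symm))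
  refine nxc_of_norm hna P (z := on .f) f_ne_one ?_ ?_ ?_ (U := E) ?_ fE ?_ (y := w Wa) (n := w Wa) (c := 1) WaE
    (by rw [one_mul, mul_one]) (by group) gen
  · show on .f ∈ (P : Subgroup ON)
    rw [hP]
    exact T0_le_S (TupT0.f_mem hs)
  · intro t ht
    have ht' : t ∈ (P : Subgroup ON) := ht
    rw [hP] at ht'
    exact mem_K0.1 (TupS.S_le hs ht')
  · intro y hy hc
    have hy' : y ∈ (P : Subgroup ON) := hy
    rw [hP] at hy'
    exact Cfsg.Agent.KFacts.ON.OneClass.center_S hy' fun x hx => hc x (by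
      show x ∈ (P : Subgroup ON)
      rw [hP]; exact hx)
  · rw [hP]
    exact ESJ.trans inf_le_left
  · rw [hP]
    exact inv_E

theorem nxc {S : Type*} [Group S] [Finite S] (h : Spor.IsoON S) : NXC S := by
  obtain ⟨e⟩ := h
  have hfin := finite_ON
  exact nxc_model.congr e.symm

end Cfsg.Agent.H341.NxcON
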